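import Mathlib
import Cfsg.Agent.S0126

/-!
Fixed points in irreducible coprime modules of a finite group of odd prime power order are small.
-/

set_option autoImplicit false

namespace CfsgLib.OddFix

variable {V Q : Type*} [CommGroup V] [Group Q] (ρ : Q →* MulAut V)

/-- Fixed points of an element. -/
def fix (g : Q) : Subgroup V := (ρ g).toMonoidHom.eqLocus (MonoidHom.id V)

theorem mem_fix {g : Q} {v : V} : v ∈ fix ρ g ↔ ρ g v = v := Iff.rfl

/-- The product over the powers of an element. -/
def orb (p : ℕ) (a : Q) (v : V) : V := ∏ j ∈ Finset.range p, ρ (a ^ j) v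

theorem orb_mem {p : ℕ} {a : Q} (ha : a ^ p = 1) (v : V) : orb ρ p a v ∈ fix ρ a := by
  rw [mem_fix]
  show ρ a (∏ j ∈ Finset.range p, ρ (a ^ j) v) = ∏ j ∈ Finset.range p, ρ (a ^ j) v
  rw [map_prod]
  have h : ∀ j, ρ a (ρ (a ^ j) v) = ρ (a ^ (j + 1)) v := fun j => by rw [pow_succ', map_mul]; rfl
  simp only [h]
  cases p with
  | zero => simp
  | succ m => rw [Finset.prod_range_succ (fun j => ρ (a ^ (j + 1)) v), Finset.prod_range_succ' (fun j => ρ (a ^ j) v),
      ha, pow_zero]

theorem orb_of_fix {p : ℕ} {a : Q} {v : V} (h : ρ a v = v) : orb ρ p a v = v ^ p := by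
  have h' : ∀ j, ρ (a ^ j) v = v := fun j => by
    induction j with
    | zero => rw [pow_zero, map_one]; rfl
    | succ j ih => rw [pow_succ, map_mul, MulAut.mul_apply, h, ih]
  rw [orb, Finset.prod_congr rfl fun j _ => h' j, Finset.prod_const, Finset.card_range]

theorem orb_fix_of_commute {p : ℕ} {a b : Q} {v : V} (hab : Commute a b) (h : ρ b v = v) :
    ρ b (orb ρ p a v) = orb ρ p a v := by
  show ρ b (∏ j ∈ Finset.range p, ρ (a ^ j) v) = _
  rw [map_prod]
  refine Finset.prod_congr rfl fun j _ => ?_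
  rw [← MulAut.mul_apply, ← map_mul, ((hab.pow_left j).eq).symm, map_mul, MulAut.mul_apply, h]

theorem fix_pow {a : Q} {v : V} (h : ρ a v = v) (n : ℕ) : ρ (a ^ n) v = v := by
  induction n with
  | zero => rw [pow_zero, map_one]; rfl
  | succ n ih => rw [pow_succ, map_mul, MulAut.mul_apply, h, ih]

theorem fix_bot_of_central (hinj : Function.Injective ρ)
    (hirr : ∀ W : Subgroup V, (∀ q, ∀ v ∈ W, ρ q v ∈ W) → W = ⊥ ∨ W = ⊤)
    {z : Q} (hz : ∀ q, q * z = z * q) (h1 : z ≠ 1) : fix ρ z = ⊥ := by
  refine (hirr (fix ρ z) fun q v hv => ?_).resolve_right fun h => h1 (hinj ?_)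
  · rw [mem_fix] at hv ⊢
    rw [← MulAut.mul_apply, ← map_mul, ← hz, map_mul, MulAut.mul_apply, hv]
  · rw [map_one]
    exact MulEquiv.ext fun v => mem_fix ρ |>.1 (h ▸ Subgroup.mem_top v)

theorem mem_center_of_card_prime [Finite Q] {p : ℕ} [hp : Fact p.Prime] (hQ : IsPGroup p Q) (A : Subgroup Q)
    [A.Normal] (hA : Nat.card A = p) : A ≤ Subgroup.center Q := by
  intro a ha
  rw [Subgroup.mem_center_iff]
  intro g
  let : MulAction (ConjAct Q) A := inferInstance
  have hQ' : IsPGroup p (ConjAct Q) := hQ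
  have h := hQ'.card_modEq_card_fixedPoints A
  have h1 : (⟨1, one_mem A⟩ : A) ∈ MulAction.fixedPoints (ConjAct Q) A := fun x => smul_one x
  have hpos : 0 < Nat.card (MulAction.fixedPoints (ConjAct Q) A) := Nat.card_pos_iff.2 ⟨⟨⟨_, h1⟩⟩, inferInstance⟩
  have hle : Nat.card (MulAction.fixedPoints (ConjAct Q) A) ≤ Nat.card A := Finite.card_subtype_le _
  rw [hA, Nat.ModEq, Nat.mod_self] at h
  have hall : Nat.card (MulAction.fixedPoints (ConjAct Q) A) = Nat.card A := by
    rw [hA] at hle ⊢
    exact le_antisymm hle (Nat.le_of_dvd hpos (Nat.dvd_of_mod_eq_zero h.symm))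
  have hbij := (Nat.bijective_iff_injective_and_card (Subtype.val : MulAction.fixedPoints (ConjAct Q) A → A)).2
    ⟨Subtype.val_injective, hall⟩
  obtain ⟨⟨x, hx⟩, e⟩ := hbij.2 ⟨a, ha⟩
  subst e
  have := congrArg (Subtype.val : A → Q) (hx (ConjAct.toConjAct g))
  rw [ConjAct.Subgroup.val_conj_smul, ConjAct.toConjAct_smul] at this
  exact mul_inv_eq_iff_eq_mul.1 this

/-- Outside a suitable proper subgroup all fixed point subgroups are small. -/
theorem exists_small_fix [Finite V] [Finite Q] {p : ℕ} [hp : Fact p.Prime] (hp2 : p ≠ 2) (hQ : IsPGroup p Q)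
    (hcop : (Nat.card V).Coprime p) [Nontrivial Q] (hinj : Function.Injective ρ)
    (hirr : ∀ W : Subgroup V, (∀ q, ∀ v ∈ W, ρ q v ∈ W) → W = ⊥ ∨ W = ⊤) :
    ∃ M : Subgroup Q, M ≠ ⊤ ∧ ∀ g, g ∉ M → Nat.card (fix ρ g) ^ p ≤ Nat.card V := by
  classical
  have root : ∀ v : V, v ^ p = 1 → v = 1 := fun v hv => orderOf_eq_one_iff.1
    (Nat.eq_one_of_dvd_coprimes hcop (orderOf_dvd_natCard v) (orderOf_dvd_of_pow_eq_one hv))
  by_cases hc : IsCyclic Q
  · obtain ⟨x, hx⟩ := hc.exists_generator
    let _ : CommGroup Q := IsCyclic.commGroup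
    refine ⟨Subgroup.zpowers (x ^ p), fun h => ?_, fun g hg => ?_⟩
    · obtain ⟨k, hk⟩ := Subgroup.mem_zpowers_iff.1 (h ▸ Subgroup.mem_top x : x ∈ Subgroup.zpowers (x ^ p))
      have h1 : x ^ ((p : ℤ) * k - 1) = 1 := by
        rw [zpow_sub, zpow_mul, zpow_natCast, hk, zpow_one, mul_inv_cancel]
      have h2 := orderOf_dvd_iff_zpow_eq_one.2 h1
      have hx1 : x ≠ 1 := fun e => by
        obtain ⟨y, hy⟩ := exists_ne (1 : Q)
        obtain ⟨j, hj⟩ := Subgroup.mem_zpowers_iff.1 (hx y)
        exact hy (by rw [← hj, e, one_zpow])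
      obtain ⟨j, hj⟩ := (IsPGroup.iff_orderOf.1 hQ) x
      have hp' : (p : ℤ) ∣ (orderOf x : ℤ) := by
        rcases j with - | j
        · exact absurd (orderOf_eq_one_iff.1 (by simpa using hj)) hx1
        · rw [hj]; exact Int.natCast_dvd_natCast.2 (dvd_pow_self p (Nat.succ_ne_zero j))
      have h3 : (p : ℤ) ∣ 1 := by
        have h4 := hp'.trans h2
        rwa [dvd_sub_right (dvd_mul_right _ _)] at h4
      have := Int.eq_one_of_dvd_one (by positivity) h3
      exact hp.out.one_lt.ne' (by exact_mod_cast this)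
    · have hg1 : g ≠ 1 := fun e => hg (e ▸ one_mem _)
      rw [fix_bot_of_central ρ hinj hirr (fun q => mul_comm q g) hg1]
      rw [Subgroup.card_bot, one_pow]
      exact Nat.card_pos
  · obtain ⟨A, hAn, ⟨hAc, hAe⟩, hAcard⟩ := Cfsg.Agent.S0126.result hp2 hQ hc
    haveI := hAn
    -- a central element of order `p` in `A`
    obtain ⟨z, hzA, hz1, hzc⟩ : ∃ z ∈ A, z ≠ 1 ∧ ∀ q, q * z = z * q := by
      have hQ' : IsPGroup p (ConjAct Q) := hQ
      have h1 : (1 : A) ∈ MulAction.fixedPoints (ConjAct Q) A := fun x => Subtype.ext (by simp)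
      obtain ⟨b, hb, hne⟩ := hQ'.exists_fixed_point_of_prime_dvd_card_of_fixed_point A
        (hAcard ▸ dvd_pow_self p two_ne_zero) h1
      refine ⟨b, b.2, fun e => hne (Subtype.ext e.symm), fun q => ?_⟩
      have := congrArg (Subtype.val : A → Q) (hb (ConjAct.toConjAct q))
      rw [ConjAct.Subgroup.val_conj_smul, ConjAct.toConjAct_smul] at this
      exact mul_inv_eq_iff_eq_mul.1 this
    have hApow : ∀ a ∈ A, a ^ p = 1 := fun a ha => by
      have := hAe a ha
      exact this
    have hoz : orderOf z = p := orderOf_eq_prime (hApow z hzA) hz1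
    obtain ⟨e, heA, hez⟩ : ∃ e ∈ A, e ∉ Subgroup.zpowers z := by
      by_contra h
      push Not at h
      have h1 := Subgroup.card_le_of_le (show A ≤ Subgroup.zpowers z from h)
      rw [hAcard, Nat.card_zpowers, hoz, pow_two] at h1
      nlinarith [hp.out.two_le]
    haveI hzn : (Subgroup.zpowers z).Normal := ⟨fun y hy q => by
      obtain ⟨j, rfl⟩ := Subgroup.mem_zpowers_iff.1 hy
      have hcq : Commute q z := hzc q
      rw [(hcq.zpow_right j).eq, mul_inv_cancel_right]
      exact Subgroup.zpow_mem _ (Subgroup.mem_zpowers z) j⟩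
    -- conjugates of `e`
    have hconj : ∀ g : Q, ∃ k : ℕ, g * e * g⁻¹ = e * z ^ k := by
      intro g
      let Ā : Subgroup (Q ⧸ Subgroup.zpowers z) := A.map (QuotientGroup.mk' _)
      haveI : Ā.Normal := hAn.map _ (QuotientGroup.mk'_surjective _)
      have hcard : Nat.card Ā = p := by
        have h1 := Subgroup.card_mul_index ((Subgroup.zpowers z).subgroupOf A)
        rw [Nat.card_congr (Subgroup.subgroupOfEquivOfLe (Subgroup.zpowers_le.2 hzA)).toEquiv, Nat.card_zpowers, hoz,
          hAcard, pow_two] at h1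
        have h2 : ((Subgroup.zpowers z).subgroupOf A).index = Nat.card Ā := by
          let f : A →* Q ⧸ Subgroup.zpowers z := (QuotientGroup.mk' _).comp A.subtype
          have hk : f.ker = (Subgroup.zpowers z).subgroupOf A := by
            ext x
            simp [f, Subgroup.mem_subgroupOf]
          rw [← hk, Subgroup.index_ker]
          show Nat.card f.range = _
          rw [MonoidHom.range_comp, Subgroup.range_subtype]
        rw [h2] at h1
        exact Nat.eq_of_mul_eq_mul_left hp.out.pos h1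
      have h := mem_center_of_card_prime (hQ.to_quotient _) Ā hcard (Subgroup.mem_map_of_mem _ heA)
      rw [Subgroup.mem_center_iff] at h
      have h2 := h (QuotientGroup.mk' _ g)
      rw [← map_mul, ← map_mul, QuotientGroup.mk'_eq_mk'] at h2
      obtain ⟨w, hw, hw'⟩ := h2
      obtain ⟨n, hn⟩ := (Submonoid.mem_powers_iff _ _).1 (mem_powers_iff_mem_zpowers.2 (inv_mem hw))
      refine ⟨n, ?_⟩
      rw [hn]
      have hwc : Commute w⁻¹ g⁻¹ := by
        rw [← hn]; exact (Commute.pow_left (hzc g⁻¹).symm n)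
      calc g * e * g⁻¹ = e * g * w⁻¹ * g⁻¹ := by rw [← hw', mul_inv_cancel_right]
        _ = e * w⁻¹ := by rw [mul_assoc (e * g), hwc.eq, ← mul_assoc, mul_inv_cancel_right]
    have hec : ∀ i : ℕ, (e * z ^ i) ^ p = 1 := fun i =>
      hApow _ (mul_mem heA (pow_mem hzA i))
    have zne : ∀ j : ℕ, ¬ p ∣ j → fix ρ (z ^ j) = ⊥ := fun j hj => by
      refine fix_bot_of_central ρ hinj hirr (fun q => (Commute.pow_right (hzc q) j).eq) fun e => hj ?_
      exact hoz ▸ orderOf_dvd_of_pow_eq_one e
    -- decomposition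
    have decomp : ∀ v : V, ∏ i ∈ Finset.range p, orb ρ p (e * z ^ i) v = v ^ p := by
      intro v
      simp only [orb]
      rw [Finset.prod_comm]
      rw [Finset.prod_eq_single 0]
      · simp
      · intro j hj hj0
        have hjd : ¬ p ∣ j := fun h => hj0 (Nat.eq_zero_of_dvd_of_lt h (Finset.mem_range.1 hj))
        have h1 : ∀ i, ρ ((e * z ^ i) ^ j) v = ρ (e ^ j) (ρ ((z ^ j) ^ i) v) := fun i => by
          rw [(Commute.pow_right (hzc e) i).mul_pow, map_mul, MulAut.mul_apply, ← pow_mul, ← pow_mul, mul_comm]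
        simp only [h1]
        rw [← map_prod]
        have h2 := orb_mem ρ (a := z ^ j) (p := p) (by rw [← pow_mul, mul_comm, pow_mul, hApow z hzA, one_pow]) v
        rw [zne j hjd, Subgroup.mem_bot, orb] at h2
        rw [h2, map_one]
      · intro h; exact absurd (Finset.mem_range.2 hp.out.pos) h
    refine ⟨Subgroup.centralizer {e}, fun h => ?_, fun g hg => ?_⟩
    · -- `A` cannot be central
      have hecen : ∀ q, q * e = e * q := fun q =>
        Subgroup.mem_centralizer_singleton_iff.1 (h ▸ Subgroup.mem_top q)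
      refine hinj.ne (exists_ne (1 : Q)).choose_spec (MulEquiv.ext fun v => ?_)
      have hv : v = 1 := by
        refine root v ?_
        rw [← decomp v]
        refine Finset.prod_eq_one fun i _ => ?_
        have h1 := orb_mem ρ (hec i) v
        rw [fix_bot_of_central ρ hinj hirr (fun q => ((Commute.mul_right (hecen q) (Commute.pow_right (hzc q) i))).eq)
          (fun e1 => hez (by
            rw [mul_eq_one_iff_eq_inv] at e1
            rw [e1]; exact inv_mem (Subgroup.npow_mem_zpowers _ _)))] at h1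
        exact Subgroup.mem_bot.1 h1
      rw [hv, map_one, map_one]
    obtain ⟨k, hk⟩ := hconj g
    have hkd : ¬ p ∣ k := fun h => hg (by
      obtain ⟨c, rfl⟩ := h
      rw [pow_mul, hApow z hzA, one_pow, mul_one, mul_inv_eq_iff_eq_mul] at hk
      exact Subgroup.mem_centralizer_singleton_iff.2 hk)
    have hgn : ∀ n : ℕ, g ^ n * e = e * z ^ (n * k) * g ^ n := by
      intro n
      induction n with
      | zero => simp
      | succ n ih =>
        have hk' : g * e = e * z ^ k * g := by rw [← hk, inv_mul_cancel_right]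
        rw [pow_succ', mul_assoc, ih, ← mul_assoc, ← mul_assoc, hk', mul_assoc _ g, (Commute.pow_right (hzc g) (n * k)).eq,
          ← mul_assoc, mul_assoc e, ← pow_add, add_one_mul, add_comm k, mul_assoc _ g]
    have hgm : ∀ (n : ℕ) (v : V), ρ (g ^ n) (orb ρ p e v) = orb ρ p (e * z ^ (n * k)) (ρ (g ^ n) v) := by
      intro n v
      simp only [orb]
      rw [map_prod]
      refine Finset.prod_congr rfl fun j _ => ?_
      rw [← MulAut.mul_apply, ← map_mul, ← MulAut.mul_apply, ← map_mul]
      congr 2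
      have hs : SemiconjBy (g ^ n) e (e * z ^ (n * k)) := hgn n
      exact (hs.pow_right j).eq
    have cover : ∀ i : ℕ, ∃ n : ℕ, n < p ∧ z ^ (n * k) = z ^ i := by
      intro i
      refine ⟨((i : ZMod p) * (k : ZMod p)⁻¹).val, ZMod.val_lt _, ?_⟩
      rw [← pow_mod_orderOf z (_ * k), ← pow_mod_orderOf z i, hoz]
      congr 1
      refine (ZMod.natCast_eq_natCast_iff' _ _ _).1 ?_
      rw [Nat.cast_mul, ZMod.natCast_zmod_val, inv_mul_cancel_right₀]
      rwa [Ne, ZMod.natCast_eq_zero_iff]
    have step1 : Nat.card (fix ρ g) ≤ Nat.card (fix ρ e) := by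
      let f : fix ρ g →* fix ρ e :=
        { toFun := fun v => ⟨orb ρ p e v.1, orb_mem ρ (hApow e heA) v.1⟩
          map_one' := Subtype.ext (by simp [orb])
          map_mul' := fun a b => Subtype.ext (by simp [orb, Finset.prod_mul_distrib]) }
      refine Nat.card_le_card_of_injective f ((injective_iff_map_eq_one f).2 fun v hv => ?_)
      have hv' : orb ρ p e v.1 = 1 := congrArg Subtype.val hv
      refine Subtype.ext (root _ ?_)
      rw [← decomp]
      refine Finset.prod_eq_one fun i _ => ?_
      obtain ⟨n, -, hn⟩ := cover i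
      rw [← hn, ← fix_pow ρ v.2 n, ← hgm, hv', map_one]
    have step2 : Nat.card (fix ρ e) ^ p ≤ Nat.card V := by
      let f : (Fin p → fix ρ e) →* V :=
        { toFun := fun a => ∏ n : Fin p, ρ (g ^ n.val) (a n).1
          map_one' := by simp
          map_mul' := fun a b => by simp [Finset.prod_mul_distrib] }
      have hinj' : Function.Injective f := (injective_iff_map_eq_one f).2 fun a ha => by
        funext m
        refine Subtype.ext ((ρ (g ^ m.val)).injective ?_)
        rw [Pi.one_apply, Subgroup.coe_one, map_one]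
        refine root _ ?_
        have hfix : ∀ n : Fin p, ρ (e * z ^ (n.val * k)) (ρ (g ^ n.val) (a n).1) = ρ (g ^ n.val) (a n).1 := fun n => by
          rw [← MulAut.mul_apply, ← map_mul, ← hgn, map_mul, MulAut.mul_apply, (mem_fix ρ).1 (a n).2]
        have h1 : orb ρ p (e * z ^ (m.val * k)) (∏ n : Fin p, ρ (g ^ n.val) (a n).1) = 1 := by
          have : (∏ n : Fin p, ρ (g ^ n.val) (a n).1) = 1 := ha
          rw [this, orb]
          simp
        rw [← h1, orb]
        simp only [map_prod]
        rw [Finset.prod_comm, Finset.prod_eq_single m]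
        · rw [← orb, orb_of_fix ρ (hfix m)]
        · intro n _ hnm
          have hcomm : Commute (e * z ^ (m.val * k)) (e * z ^ (n.val * k)) :=
            congrArg Subtype.val (hAc.is_comm.comm ⟨_, mul_mem heA (pow_mem hzA _)⟩ ⟨_, mul_mem heA (pow_mem hzA _)⟩)
          have hf1 := orb_fix_of_commute ρ (p := p) hcomm (hfix n)
          have hf2 := orb_mem ρ (p := p) (hec (m.val * k)) (ρ (g ^ n.val) (a n).1)
          rw [mem_fix] at hf2
          rw [← orb]
          generalize orb ρ p (e * z ^ (m.val * k)) (ρ (g ^ n.val) (a n).1) = w at hf1 hf2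
          rw [map_mul, MulAut.mul_apply] at hf1 hf2
          have h3 : ρ (z ^ (m.val * k)) w = ρ (z ^ (n.val * k)) w := (ρ e).injective (hf2.trans hf1.symm)
          have key : ∀ a b : ℕ, a < b → b < p → ρ (z ^ (a * k)) w = ρ (z ^ (b * k)) w → w = 1 := by
            intro a b hab hb h
            rw [show b * k = a * k + (b - a) * k by rw [← add_mul, Nat.add_sub_cancel' hab.le], pow_add, map_mul,
              MulAut.mul_apply] at h
            have h4 : w ∈ fix ρ (z ^ ((b - a) * k)) := ((ρ (z ^ (a * k))).injective h).symm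
            rw [zne _ (fun hd => by
              rcases hp.out.dvd_mul.1 hd with hd | hd
              · have := Nat.le_of_dvd (by omega) hd; omega
              · exact hkd hd)] at h4
            exact Subgroup.mem_bot.1 h4
          rcases lt_or_gt_of_ne (fun h => hnm (Fin.ext h) : n.val ≠ m.val) with hlt | hlt
          · exact key _ _ hlt m.2 h3.symm
          · exact key _ _ hlt n.2 h3
        · intro h; exact absurd (Finset.mem_univ _) h
      have := Nat.card_le_card_of_injective f hinj'
      rwa [Nat.card_fun, Nat.card_fin] at this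
    exact le_trans (Nat.pow_le_pow_left step1 p) step2

end CfsgLib.OddFix
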